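import Groth.Agent.Lib.DegDet.Formula
import Groth.Agent.Lib.SemiTriv10.Main
import Groth.Agent.Lib.VA.Tensor
import Mathlib.LinearAlgebra.Matrix.Basis
import Mathlib.LinearAlgebra.Matrix.Determinant.Basic

/-!
# A line bundle fixing a vector bundle of rank `r` has trivial `r`-th power
-/

set_option autoImplicit false
set_option linter.all false
set_option backward.isDefEq.respectTransparency false

universe u

open CategoryTheory CategoryTheory.Limits AlgebraicGeometry Opposite TopologicalSpace
open GrothLib.InvExt (mres fres IsGen mres_mres mres_smul)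
open GrothLib.FinCov (IsFrame)
open GrothLib.VA (tm)

noncomputable section

namespace GrothLib.DetTwist15

variable {X : Scheme.{u}} {E F N : X.Modules}

/-- The powers of a local section. -/
def tpow {V : X.Opens} (n : Γ(N, V)) : ∀ k : ℕ, Γ(CohB1.tensorPow N k, V)
  | 0 => FinCov.one X V
  | k + 1 => tm (tpow n k) n

theorem mres_tpow {V W : X.Opens} (h : W ≤ V) (n : Γ(N, V)) (k : ℕ) :
    mres (CohB1.tensorPow N k) h (tpow n k) = tpow (mres N h n) k := by
  induction k with
  | zero => exact map_one (X.presheaf.map (homOfLE h).op).hom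
  | succ k ih =>
    show mres (CohB1.tensorMod (CohB1.tensorPow N k) N) h (tm (tpow n k) n) = tm (tpow (mres N h n) k) (mres N h n)
    rw [VA.mres_tm, ih]

theorem tpow_smul {V : X.Opens} (c : Γ(X, V)) (n : Γ(N, V)) (k : ℕ) : tpow (c • n) k = c ^ k • tpow n k := by
  induction k with
  | zero => show tpow (c • n) 0 = c ^ 0 • tpow n 0; rw [pow_zero, one_smul]; rfl
  | succ k ih =>
    show tm (tpow (c • n) k) (c • n) = c ^ (k + 1) • tm (tpow n k) n
    rw [ih, VA.tm_smul_left, VA.tm_smul_right, smul_smul, pow_succ]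

theorem isGen_tpow {V : X.Opens} {n : Γ(N, V)} (hn : IsGen N V n) (k : ℕ) :
    IsGen (CohB1.tensorPow N k) V (tpow n k) := by
  induction k with
  | zero =>
    intro W h
    have e : mres (Coh.structureModule X) h (FinCov.one X V) = FinCov.one X W :=
      map_one (X.presheaf.map (homOfLE h).op).hom
    show Function.Bijective fun c : Γ(X, W) => c • mres (Coh.structureModule X) h (FinCov.one X V)
    rw [e, show (fun c : Γ(X, W) => c • FinCov.one X W) = fun c => (c : Γ(Coh.structureModule X, W)) from
      funext fun c => FinCov.smul_one W c]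
    exact Function.bijective_id
  | succ k ih => exact VA.isGen_tm ih hn

/-- An isomorphism carries frames to frames. -/
theorem isFrame_app (φ : E ≅ F) {V : X.Opens} {r : ℕ} {e : Fin r → Γ(E, V)} (he : IsFrame E V e) :
    IsFrame F V fun i => φ.hom.app V (e i) := by
  intro W h
  have e1 : (fun c : Fin r → Γ(X, W) => ∑ i, c i • F.presheaf.map (homOfLE h).op (φ.hom.app V (e i))) =
      φ.hom.app W ∘ fun c => ∑ i, c i • E.presheaf.map (homOfLE h).op (e i) := by
    funext c
    show _ = φ.hom.app W (∑ i, c i • mres E h (e i))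
    rw [map_sum]
    refine Finset.sum_congr rfl fun i _ => ?_
    rw [Ample.app_smul, Ample.app_mres]
  rw [e1]
  exact (ConcreteCategory.bijective_of_isIso (φ.hom.app W)).comp (he W h)

variable (φ : CohB1.tensorMod E N ≅ E) {r : ℕ}

/-- The matrix of `φ` in a frame and a generator. -/
def mat {V : X.Opens} {e : Fin r → Γ(E, V)} (he : IsFrame E V e) (n : Γ(N, V)) {W : X.Opens} (h : W ≤ V) :
    Matrix (Fin r) (Fin r) Γ(X, W) :=
  (he.basis W h).toMatrix fun a => φ.hom.app W (tm (mres E h (e a)) (mres N h n))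

theorem isUnit_det_mat {V : X.Opens} {e : Fin r → Γ(E, V)} (he : IsFrame E V e) {n : Γ(N, V)}
    (hn : IsGen N V n) : IsUnit (mat φ he n le_rfl).det := by
  have hf := isFrame_app φ (DegDet.isFrame_tm_gen he hn)
  have e1 : mat φ he n le_rfl = (he.basis V le_rfl).toMatrix (hf.basis V le_rfl) := by
    unfold mat
    congr 1
    funext a
    rw [hf.basis_apply, InvExt.mres_self, InvExt.mres_self]
    exact (InvExt.mres_self _ _).symm
  rw [e1, Matrix.isUnit_iff_isUnit_det _ |>.symm]
  exact IsUnit.of_mul_eq_one _ ((he.basis V le_rfl).toMatrix_mul_toMatrix_flip (hf.basis V le_rfl))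

theorem det_mat_res {V : X.Opens} {e : Fin r → Γ(E, V)} (he : IsFrame E V e) (n : Γ(N, V)) {W : X.Opens}
    (h : W ≤ V) : fres X h (mat φ he n le_rfl).det = (mat φ he n h).det := by
  refine (RingHom.map_det (X.presheaf.map (homOfLE h).op).hom _).trans (congrArg Matrix.det ?_)
  refine Matrix.ext fun i a => ?_
  show fres X h ((he.basis V le_rfl).repr (φ.hom.app V (tm (mres E le_rfl (e a)) (mres N le_rfl n))) i) =
    (he.basis W h).repr (φ.hom.app W (tm (mres E h (e a)) (mres N h n))) i
  rw [InvExt.mres_self, InvExt.mres_self]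
  set z := φ.hom.app V (tm (e a) n) with hz
  have e2 : φ.hom.app W (tm (mres E h (e a)) (mres N h n)) = mres E h z := by
    rw [hz, ← Ample.app_mres, VA.mres_tm]
  have e3 : mres E h z = ∑ j, fres X h ((he.basis V le_rfl).repr z j) • he.basis W h j := by
    conv_lhs => rw [← (he.basis V le_rfl).sum_repr z]
    refine (map_sum (E.presheaf.map (homOfLE h).op).hom _ _).trans (Finset.sum_congr rfl fun j _ => ?_)
    show mres E h (_ • _) = _
    rw [mres_smul, he.basis_apply, he.basis_apply]
    exact congrArg (_ • ·) (mres_mres E le_rfl h (e j))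
  rw [e2, e3, Module.Basis.repr_sum_self]

/-- The change of generator and frame. -/
theorem det_change {V V' : X.Opens} {e : Fin r → Γ(E, V)} {e' : Fin r → Γ(E, V')} (he : IsFrame E V e)
    (he' : IsFrame E V' e') {n : Γ(N, V)} {n' : Γ(N, V')} {W : X.Opens} (h : W ≤ V) (h' : W ≤ V') (c : Γ(X, W))
    (hc : mres N h' n' = c • mres N h n) :
    c ^ r * (mat φ he n h).det = (mat φ he' n' h').det := by
  classical
  let b := he.basis W h
  let b' := he'.basis W h'
  let G := b.toMatrix b'
  let f : Γ(E, W) →ₗ[Γ(X, W)] Γ(E, W) :=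
    { toFun := fun m => φ.hom.app W (tm m (mres N h n))
      map_add' := fun m m' => by rw [VA.tm_add_left, map_add]
      map_smul' := fun r m => by rw [VA.tm_smul_left, Ample.app_smul]; rfl }
  have e1 : mat φ he n h = LinearMap.toMatrix b b f := by
    refine Matrix.ext fun i a => ?_
    rw [LinearMap.toMatrix_apply, he.basis_apply]
    rfl
  have e2 : mat φ he' n' h' = LinearMap.toMatrix b' b' (c • f) := by
    refine Matrix.ext fun i a => ?_
    rw [LinearMap.toMatrix_apply, he'.basis_apply]
    show b'.repr (φ.hom.app W (tm (mres E h' (e' a)) (mres N h' n'))) i = b'.repr (c • φ.hom.app W (tm _ _)) i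
    rw [hc, VA.tm_smul_right, Ample.app_smul]
  rw [e1, e2, map_smul, Matrix.det_smul, LinearMap.det_toMatrix, LinearMap.det_toMatrix, Fintype.card_fin]

include φ in
/-- **If `E ⊗ N ≅ E` with `E` locally free of rank `r`, then `N^{⊗ r}` is trivial.** -/
theorem nonempty_tensorPow_iso (hE : FlatMod.IsFinLocFreeOfRank r E) (hN : PicF.IsInvertible N) :
    Nonempty (CohB1.tensorPow N r ≅ Coh.structureModule X) := by
  have hloc : ∀ x : X, ∃ (V : X.Opens) (e : Fin r → Γ(E, V)) (n : Γ(N, V)),
      x ∈ V ∧ IsFrame E V e ∧ IsGen N V n := fun x => by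
    obtain ⟨U, e, hxU, he⟩ := FinCov.exists_frame_nhd_of_rank hE x
    obtain ⟨U', n, hxU', hn⟩ := InvExt.exists_gen_nhd hN x
    refine ⟨U ⊓ U', fun i => mres E inf_le_left (e i), mres N inf_le_right n, ⟨hxU, hxU'⟩, fun W h => ?_,
      hn.restrict _⟩
    have := he W (h.trans inf_le_left)
    convert this using 3 with c i
    exact congrArg (c i • ·) (mres_mres E (inf_le_left : U ⊓ U' ≤ U) h (e i))
  choose V e n hxV he hn using hloc
  let M := CohB1.tensorPow N r
  let d : ∀ x, Γ(X, V x) := fun x => ↑((isUnit_det_mat φ (he x) (hn x)).unit⁻¹)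
  let t : ∀ x, Γ(M, V x) := fun x => d x • tpow (n x) r
  have ht : ∀ x y, mres M (inf_le_left : V x ⊓ V y ≤ V x) (t x) = mres M inf_le_right (t y) := by
    intro x y
    obtain ⟨c, hc⟩ := (hn x).exists_smul_eq (inf_le_left : V x ⊓ V y ≤ V x)
      (mres N (inf_le_right : V x ⊓ V y ≤ V y) (n y))
    have hD := det_change φ (he x) (he y) inf_le_left inf_le_right c hc
    rw [mres_smul, mres_smul, mres_tpow, mres_tpow, hc, tpow_smul, smul_smul]
    congr 1
    have hx1 : fres X (inf_le_left : V x ⊓ V y ≤ V x) (d x) * (mat φ (he x) (n x) inf_le_left).det = 1 := by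
      rw [← det_mat_res φ (he x)]
      exact ((map_mul (X.presheaf.map (homOfLE (inf_le_left : V x ⊓ V y ≤ V x)).op).hom _ _).symm.trans
        (congrArg _ (IsUnit.val_inv_mul _))).trans (map_one _)
    have hy1 : fres X (inf_le_right : V x ⊓ V y ≤ V y) (d y) * (mat φ (he y) (n y) inf_le_right).det = 1 := by
      rw [← det_mat_res φ (he y)]
      exact ((map_mul (X.presheaf.map (homOfLE (inf_le_right : V x ⊓ V y ≤ V y)).op).hom _ _).symm.trans
        (congrArg _ (IsUnit.val_inv_mul _))).trans (map_one _)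
    rw [← hD] at hy1
    generalize (mat φ (he x) (n x) (inf_le_left : V x ⊓ V y ≤ V x)).det = D at hx1 hy1
    generalize fres X (inf_le_left : V x ⊓ V y ≤ V x) (d x) = a at hx1 ⊢
    generalize fres X (inf_le_right : V x ⊓ V y ≤ V y) (d y) = b at hy1 ⊢
    calc a = a * (b * (c ^ r * D)) := by rw [hy1, mul_one]
      _ = b * c ^ r * (a * D) := by ring
      _ = b * c ^ r := by rw [hx1, mul_one]
  have hcov : (⊤ : X.Opens) ≤ ⨆ x, V x := fun x _ => Opens.mem_iSup.mpr ⟨x, hxV x⟩
  obtain ⟨s, hs, -⟩ := TopCat.Sheaf.existsUnique_gluing' ⟨M.presheaf, M.isSheaf⟩ V ⊤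
    (fun x => homOfLE le_top) hcov t (fun x y => ht x y)
  refine SemiTriv10.nonempty_iso_of_isGen_top s (InvExt.isGen_of_cover V (fun _ => le_top) hcov fun x => ?_)
  have hs' : mres M (le_top : V x ≤ ⊤) s = t x := hs x
  rw [hs']
  exact (isGen_tpow (hn x) r).smul_unit (Units.isUnit _)

end GrothLib.DetTwist15
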